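import Mathlib
import Cfsg.Prelude.Def_Sporadic_a

/-!
Double counting in Steiner systems: number of blocks through an `i`-set.
-/

set_option autoImplicit false

namespace Cfsg.Agent.Lib.Steiner.Counting

open Finset

variable {α : Type*} [DecidableEq α]

/-- Number of `m`-subsets of `X` containing `S`. -/
lemma card_superset (X S : Finset α) (m : ℕ) (hS : S ⊆ X) (hm : S.card ≤ m) :
    ((powersetCard m X).filter (fun T => S ⊆ T)).card = (X.card - S.card).choose (m - S.card) := by
  have : ((powersetCard m X).filter (fun T => S ⊆ T)).card =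
      (powersetCard (m - S.card) (X \ S)).card := by
    apply Finset.card_bij' (fun T _ => T \ S) (fun T' _ => T' ∪ S)
    · intro T hT
      rw [mem_filter, mem_powersetCard] at hT
      rw [mem_powersetCard]
      refine ⟨sdiff_subset_sdiff hT.1.1 (Subset.refl _), ?_⟩
      rw [card_sdiff_of_subset hT.2, hT.1.2]
    · intro T' hT'
      rw [mem_powersetCard] at hT'
      rw [mem_filter, mem_powersetCard]
      refine ⟨⟨union_subset (hT'.1.trans sdiff_subset) hS, ?_⟩, subset_union_right⟩
      rw [card_union_of_disjoint, hT'.2]
      · omega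
      · exact disjoint_of_subset_left hT'.1 sdiff_disjoint
    · intro T hT
      rw [mem_filter] at hT
      exact sdiff_union_of_subset hT.2
    · intro T' hT'
      rw [mem_powersetCard] at hT'
      rw [union_sdiff_right]
      exact sdiff_eq_self_of_disjoint (disjoint_of_subset_left hT'.1 sdiff_disjoint)
  rw [this, card_powersetCard, card_sdiff_of_subset hS]

variable [Fintype α]

/-- Number of blocks through an `i`-set, `i ≤ t`, in a Steiner system (multiplied out). -/
theorem card_blocks_through {t k : ℕ} {B : Set (Finset α)} (hB : Cfsg.IsSteinerSystem t k B)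
    (B' : Finset (Finset α)) (hB' : ∀ b, b ∈ B' ↔ b ∈ B) (S : Finset α) (hS : S.card ≤ t) :
    (B'.filter (fun b => S ⊆ b)).card * (k - S.card).choose (t - S.card) =
      (Fintype.card α - S.card).choose (t - S.card) := by
  classical
  set F : Finset (Finset α) := (powersetCard t (univ : Finset α)).filter (fun T => S ⊆ T) with hF
  have hFcard : F.card = (Fintype.card α - S.card).choose (t - S.card) := by
    rw [hF, card_superset _ _ _ (subset_univ _) hS, card_univ]
  have hdouble := Finset.sum_card_bipartiteAbove_eq_sum_card_bipartiteBelow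
    (s := F) (t := B') (fun T b => T ⊆ b)
  have hL : ∑ a ∈ F, (B'.bipartiteAbove (fun T b => T ⊆ b) a).card = F.card := by
    rw [card_eq_sum_ones F]
    apply sum_congr rfl
    intro T hT
    rw [hF, mem_filter, mem_powersetCard] at hT
    obtain ⟨b, ⟨hb, hTb⟩, huniq⟩ := hB.2 T hT.1.2
    rw [card_eq_one]
    refine ⟨b, ?_⟩
    ext c
    simp only [bipartiteAbove, mem_filter, mem_singleton, hB']
    constructor
    · rintro ⟨hc1, hc2⟩
      exact huniq c ⟨hc1, hc2⟩
    · rintro rfl
      exact ⟨hb, hTb⟩
  have hR : ∑ b ∈ B', (F.bipartiteBelow (fun T b => T ⊆ b) b).card =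
      (B'.filter (fun b => S ⊆ b)).card * (k - S.card).choose (t - S.card) := by
    rw [← smul_eq_mul, ← sum_const, sum_filter]
    apply sum_congr rfl
    intro b hb
    have hbk : b.card = k := hB.1 b ((hB' b).1 hb)
    have hset : F.bipartiteBelow (fun T b => T ⊆ b) b =
        (powersetCard t b).filter (fun T => S ⊆ T) := by
      ext T
      simp only [bipartiteBelow, hF, mem_filter, mem_powersetCard, subset_univ, true_and]
      tauto
    rw [hset]
    split_ifs with hSb
    · rw [card_superset _ _ _ hSb hS, hbk]
    · rw [card_eq_zero, filter_eq_empty_iff]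
      intro T hT hST
      rw [mem_powersetCard] at hT
      exact hSb (hST.trans hT.1)
  rw [← hFcard, ← hR, ← hdouble, hL]

end Cfsg.Agent.Lib.Steiner.Counting
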