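import Cfsg.Prelude.Def_Sporadic_a

/-!
Abstract counting for Steiner systems: number of blocks through a small set, and the
intersection ("Leech") triangle: the number of blocks containing `T` and missing `U`, for `T`, `U`
disjoint subsets of a block, only depends on `|T|` and `|U|`.
-/

set_option autoImplicit false

namespace Cfsg.Agent.Lib.Steiner.Basic

open Finset

variable {α : Type*} [Fintype α] [DecidableEq α] {t k : ℕ} {B : Set (Finset α)}

set_option linter.unusedSectionVars false

/-- The blocks of a family of finsets, as a finset. -/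
noncomputable def blocksF (B : Set (Finset α)) : Finset (Finset α) :=
  (Set.toFinite B).toFinset

@[simp] theorem mem_blocksF {B : Set (Finset α)} {c : Finset α} : c ∈ blocksF B ↔ c ∈ B := by
  simp [blocksF]

/-- The number of `t`-subsets `S` with `T ⊆ S ⊆ U`. -/
theorem card_between (T U : Finset α) (hTU : T ⊆ U) (r : ℕ) (hr : T.card ≤ r) :
    ((U.powerset).filter (fun S => T ⊆ S ∧ S.card = r)).card
      = Nat.choose (U.card - T.card) (r - T.card) := by
  have h : ((U.powerset).filter (fun S => T ⊆ S ∧ S.card = r))
      = ((U \ T).powersetCard (r - T.card)).image (fun S => S ∪ T) := by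
    ext S
    simp only [mem_filter, mem_powerset, mem_image, mem_powersetCard]
    constructor
    · rintro ⟨hSU, hTS, hS⟩
      refine ⟨S \ T, ⟨?_, ?_⟩, ?_⟩
      · exact sdiff_subset_sdiff hSU (le_refl _)
      · rw [card_sdiff_of_subset hTS, hS]
      · exact sdiff_union_of_subset hTS
    · rintro ⟨S', ⟨hS'U, hS'⟩, rfl⟩
      refine ⟨union_subset (hS'U.trans sdiff_subset) hTU, subset_union_right, ?_⟩
      have hd : Disjoint S' T := by
        rw [Finset.disjoint_left]
        intro x hx hxT
        exact (mem_sdiff.mp (hS'U hx)).2 hxT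
      rw [card_union_of_disjoint hd, hS']
      omega
  rw [h, card_image_of_injOn, card_powersetCard, card_sdiff_of_subset hTU]
  intro S hS S' hS' hSS'
  rw [Finset.mem_coe, mem_powersetCard] at hS hS'
  have hd : Disjoint S T := by
    rw [Finset.disjoint_left]
    intro x hx hxT
    exact (mem_sdiff.mp (hS.1 hx)).2 hxT
  have hd' : Disjoint S' T := by
    rw [Finset.disjoint_left]
    intro x hx hxT
    exact (mem_sdiff.mp (hS'.1 hx)).2 hxT
  simp only at hSS'
  calc S = (S ∪ T) \ T := by rw [union_sdiff_cancel_right hd]
    _ = (S' ∪ T) \ T := by rw [hSS']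
    _ = S' := by rw [union_sdiff_cancel_right hd']

/-- Counting: for any `E`, the sum over blocks `d` of the number of `t`-subsets of `d ∩ E`
containing `T` equals the number of `t`-subsets of `E` containing `T`. -/
theorem sum_card_filter (hB : Cfsg.IsSteinerSystem t k B) (E T : Finset α) :
    ∑ d ∈ blocksF B, (((d ∩ E).powerset).filter (fun S => T ⊆ S ∧ S.card = t)).card
      = ((E.powerset).filter (fun S => T ⊆ S ∧ S.card = t)).card := by
  classical
  rw [← card_biUnion]
  · congr 1
    ext S
    simp only [mem_biUnion, mem_filter, mem_powerset, mem_blocksF, subset_inter_iff]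
    constructor
    · rintro ⟨d, _, ⟨_, hSE⟩, hTS, hS⟩
      exact ⟨hSE, hTS, hS⟩
    · rintro ⟨hSE, hTS, hS⟩
      obtain ⟨d, ⟨hd, hSd⟩, _⟩ := hB.2 S hS
      exact ⟨d, hd, ⟨hSd, hSE⟩, hTS, hS⟩
  · intro d hd d' hd' hne
    rw [Function.onFun, Finset.disjoint_left]
    intro S hS hS'
    simp only [mem_filter, mem_powerset, subset_inter_iff] at hS hS'
    apply hne
    obtain ⟨d'', _, hu⟩ := hB.2 S hS.2.2
    have h1 := hu d ⟨mem_blocksF.mp hd, hS.1.1⟩
    have h2 := hu d' ⟨mem_blocksF.mp hd', hS'.1.1⟩
    rw [h1, h2]

/-- S(t,k,v): the number of blocks times `C(k, t)` is `C(v, t)`. -/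
theorem ncard_mul_choose (hB : Cfsg.IsSteinerSystem t k B) :
    B.ncard * Nat.choose k t = Nat.choose (Fintype.card α) t := by
  have h := sum_card_filter hB (univ : Finset α) ∅
  have h1 : ∀ d ∈ blocksF B,
      (((d ∩ univ).powerset).filter (fun S => (∅ : Finset α) ⊆ S ∧ S.card = t)).card
        = Nat.choose k t := by
    intro d hd
    have := card_between (∅ : Finset α) (d ∩ univ) (empty_subset _) t (by simp)
    rw [this]
    simp [hB.1 d (mem_blocksF.mp hd)]
  rw [sum_congr rfl h1, sum_const, smul_eq_mul] at h
  have h2 := card_between (∅ : Finset α) univ (empty_subset _) t (by simp)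
  rw [h2] at h
  simp only [card_empty, Nat.sub_zero, card_univ] at h
  have h3 : (blocksF B).card = B.ncard := by
    rw [blocksF, Set.ncard_eq_toFinset_card B (Set.toFinite B)]
  rw [← h3]
  exact h

/-- The number of blocks containing a given `T`, with `|T| ≤ t`, times `C(k - |T|, t - |T|)`. -/
theorem card_blocks_through (hB : Cfsg.IsSteinerSystem t k B) (T : Finset α) (hT : T.card ≤ t) :
    ((blocksF B).filter (fun c => T ⊆ c)).card * Nat.choose (k - T.card) (t - T.card)
      = Nat.choose (Fintype.card α - T.card) (t - T.card) := by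
  have h := sum_card_filter hB (univ : Finset α) T
  have h2 := card_between T univ (subset_univ _) t hT
  rw [h2, card_univ] at h
  rw [← h, ← sum_filter_add_sum_filter_not (blocksF B) (fun c => T ⊆ c)]
  have h3 : ∀ d ∈ (blocksF B).filter (fun c => T ⊆ c),
      (((d ∩ univ).powerset).filter (fun S => T ⊆ S ∧ S.card = t)).card
        = Nat.choose (k - T.card) (t - T.card) := by
    intro d hd
    rw [mem_filter] at hd
    have := card_between T (d ∩ univ) (by simpa using hd.2) t hT
    rw [this]
    simp [hB.1 d (mem_blocksF.mp hd.1)]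
  have h4 : ∀ d ∈ (blocksF B).filter (fun c => ¬ T ⊆ c),
      (((d ∩ univ).powerset).filter (fun S => T ⊆ S ∧ S.card = t)).card = 0 := by
    intro d hd
    rw [mem_filter] at hd
    rw [card_eq_zero, filter_eq_empty_iff]
    intro S hS hS'
    rw [mem_powerset, inter_univ] at hS
    exact hd.2 (hS'.1.trans hS)
  rw [sum_congr rfl h3, sum_congr rfl h4]
  simp

/-- The intersection numbers: `lam v k t i` is the number of blocks of an `S(t, k, v)` containing a
given `i`-subset of a block, for any `i ≤ k`. -/
def lam (v k t i : ℕ) : ℕ :=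
  if i ≤ t then Nat.choose (v - i) (t - i) / Nat.choose (k - i) (t - i) else 1

/-- The Leech triangle: `tri v k t i j` is the number of blocks of an `S(t, k, v)` that contain a
given `i`-subset of a block `b`, and miss a given `j`-subset of `b` disjoint from it. -/
def tri (v k t : ℕ) : ℕ → ℕ → ℕ
  | i, 0 => lam v k t i
  | i, j + 1 => tri v k t i j - tri v k t (i + 1) j

/-- The number of blocks through a subset `T` of a block. -/
theorem card_blocks_through_eq (hB : Cfsg.IsSteinerSystem t k B) (htk : t ≤ k) {b : Finset α}
    (hb : b ∈ B) (T : Finset α) (hT : T ⊆ b) :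
    ((blocksF B).filter (fun c => T ⊆ c)).card = lam (Fintype.card α) k t T.card := by
  have hbk := hB.1 b hb
  have hTk : T.card ≤ k := by rw [← hbk]; exact card_le_card hT
  rw [lam]
  split_ifs with h
  · have h1 := card_blocks_through hB T h
    have hpos : 0 < Nat.choose (k - T.card) (t - T.card) := Nat.choose_pos (by omega)
    rw [← h1, Nat.mul_div_cancel _ hpos]
  · -- `T` has at least `t` points: `b` is the only block containing it
    push Not at h
    obtain ⟨S, hST, hS⟩ := Finset.exists_subset_card_eq (le_of_lt h)
    rw [card_eq_one]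
    refine ⟨b, ?_⟩
    ext c
    simp only [mem_filter, mem_blocksF, mem_singleton]
    constructor
    · rintro ⟨hc, hTc⟩
      exact (hB.2 S hS).unique ⟨hc, hST.trans hTc⟩ ⟨hb, hST.trans hT⟩
    · rintro rfl
      exact ⟨hb, hT⟩

/-- The main counting lemma: blocks containing `T` and missing `U`, for disjoint subsets of a
block `b`. -/
theorem card_contain_miss (hB : Cfsg.IsSteinerSystem t k B) (htk : t ≤ k) {b : Finset α}
    (hb : b ∈ B) (U : Finset α) :
    ∀ T : Finset α, T ⊆ b → U ⊆ b → Disjoint T U →
      ((blocksF B).filter (fun c => T ⊆ c ∧ Disjoint c U)).card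
        = tri (Fintype.card α) k t T.card U.card := by
  induction U using Finset.induction_on with
  | empty =>
    intro T hT _ _
    simp only [disjoint_empty_right, and_true, card_empty, tri]
    exact card_blocks_through_eq hB htk hb T hT
  | insert x U hxU ih =>
    intro T hT hU hTU
    have hx : x ∈ b := hU (mem_insert_self _ _)
    have hU' : U ⊆ b := (subset_insert _ _).trans hU
    have hxT : x ∉ T := fun h => (Finset.disjoint_left.mp hTU h) (mem_insert_self _ _)
    have hTU' : Disjoint T U := hTU.mono_right (subset_insert _ _)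
    have h1 := ih T hT hU' hTU'
    have hTU2 : Disjoint (insert x T) U := by
      rw [disjoint_insert_left]
      exact ⟨hxU, hTU'⟩
    have h2 := ih (insert x T) (insert_subset hx hT) hU' hTU2
    rw [card_insert_of_notMem hxT] at h2
    rw [card_insert_of_notMem hxU]
    simp only [tri]
    rw [← h1, ← h2]
    have hsplit : ((blocksF B).filter (fun c => T ⊆ c ∧ Disjoint c U))
        = ((blocksF B).filter (fun c => T ⊆ c ∧ Disjoint c (insert x U)))
          ∪ ((blocksF B).filter (fun c => insert x T ⊆ c ∧ Disjoint c U)) := by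
      ext c
      simp only [mem_filter, mem_union, disjoint_insert_right, insert_subset_iff]
      tauto
    have hdisj : Disjoint ((blocksF B).filter (fun c => T ⊆ c ∧ Disjoint c (insert x U)))
        ((blocksF B).filter (fun c => insert x T ⊆ c ∧ Disjoint c U)) := by
      rw [Finset.disjoint_left]
      intro c hc hc'
      simp only [mem_filter, disjoint_insert_right, insert_subset_iff] at hc hc'
      exact hc.2.2.1 hc'.2.1.1
    rw [hsplit, card_union_of_disjoint hdisj]
    simp

/-- The number of blocks meeting the block `b` exactly in the subset `I`. -/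
theorem card_inter_eq (hB : Cfsg.IsSteinerSystem t k B) (htk : t ≤ k) {b : Finset α}
    (hb : b ∈ B) (I : Finset α) (hI : I ⊆ b) :
    ((blocksF B).filter (fun c => c ∩ b = I)).card
      = tri (Fintype.card α) k t I.card (k - I.card) := by
  have h := card_contain_miss hB htk hb (b \ I) I hI sdiff_subset disjoint_sdiff
  have hcard : (b \ I).card = k - I.card := by
    rw [card_sdiff_of_subset hI, hB.1 b hb]
  rw [hcard] at h
  rw [← h]
  congr 1
  ext c
  simp only [mem_filter, and_congr_right_iff]
  intro _
  constructor
  · rintro rfl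
    refine ⟨inter_subset_left, ?_⟩
    rw [Finset.disjoint_left]
    intro x hx hx'
    rw [mem_sdiff, mem_inter] at hx'
    exact hx'.2 ⟨hx, hx'.1⟩
  · rintro ⟨hIc, hd⟩
    ext x
    rw [mem_inter]
    constructor
    · rintro ⟨hxc, hxb⟩
      by_contra hxI
      exact (Finset.disjoint_left.mp hd hxc) (mem_sdiff.mpr ⟨hxb, hxI⟩)
    · intro hxI
      exact ⟨hIc hxI, hI hxI⟩

/-- If the triangle's entry vanishes, no block meets `b` in a set of that size. -/
theorem inter_card_ne_of_tri_eq_zero (hB : Cfsg.IsSteinerSystem t k B) (htk : t ≤ k) {b c : Finset α}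
    (hb : b ∈ B) (hc : c ∈ B) (h : tri (Fintype.card α) k t (b ∩ c).card (k - (b ∩ c).card) = 0) :
    False := by
  have h1 := card_inter_eq hB htk hb (b ∩ c) inter_subset_left
  rw [h, card_eq_zero, filter_eq_empty_iff] at h1
  exact h1 (mem_blocksF.mpr hc) (inter_comm _ _)

/-- The number of blocks disjoint from a block. -/
theorem ncard_disjoint (hB : Cfsg.IsSteinerSystem t k B) (htk : t ≤ k) {b : Finset α}
    (hb : b ∈ B) : {c : Finset α | c ∈ B ∧ Disjoint b c}.ncard = tri (Fintype.card α) k t 0 k := by
  have h := card_contain_miss hB htk hb b ∅ (empty_subset _) (Subset.refl _) (disjoint_empty_left _)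
  rw [card_empty, hB.1 b hb] at h
  rw [← h, ← Set.ncard_coe_finset]
  congr 1
  ext c
  simp [disjoint_comm]

end Cfsg.Agent.Lib.Steiner.Basic
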