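import Cfsg.Agent.Lib.Steiner.Basic

/-!
Moments of the intersection sizes of the blocks of a Steiner system with a fixed set.
-/

set_option autoImplicit false
set_option linter.unusedSectionVars false

namespace Cfsg.Agent.Lib.Steiner.Moments

open Finset Cfsg.Agent.Lib.Steiner.Basic

variable {α : Type*} [Fintype α] [DecidableEq α] {t k : ℕ} {B : Set (Finset α)}

/-- The `i`-th binomial moment of the intersection sizes with `E`, for a family in which every
`i`-set lies in exactly `l` members. -/
theorem sum_choose_inter (E : Finset α) (i l : ℕ)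
    (hl : ∀ T : Finset α, T.card = i → ((blocksF B).filter (fun c => T ⊆ c)).card = l) :
    ∑ d ∈ blocksF B, Nat.choose (d ∩ E).card i = Nat.choose E.card i * l := by
  have h1 : ∀ d ∈ blocksF B, Nat.choose (d ∩ E).card i
      = ∑ T ∈ E.powersetCard i, if T ⊆ d then 1 else 0 := by
    intro d _
    rw [← card_powersetCard, ← card_filter]
    congr 1
    ext T
    simp only [mem_powersetCard, mem_filter, subset_inter_iff]
    tauto
  rw [sum_congr rfl h1, sum_comm]
  have h2 : ∀ T ∈ E.powersetCard i, (∑ d ∈ blocksF B, if T ⊆ d then 1 else 0) = l := by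
    intro T hT
    rw [← card_filter]
    exact hl T (mem_powersetCard.mp hT).2
  rw [sum_congr rfl h2, sum_const, card_powersetCard, smul_eq_mul]

/-- The number of blocks through any `T` of size `i ≤ t`. -/
theorem card_through_of_mul (hB : Cfsg.IsSteinerSystem t k B) (i l : ℕ) (hi : i ≤ t) (hik : i ≤ k)
    (htk : t ≤ k)
    (hl : l * Nat.choose (k - i) (t - i) = Nat.choose (Fintype.card α - i) (t - i)) :
    ∀ T : Finset α, T.card = i → ((blocksF B).filter (fun c => T ⊆ c)).card = l := by
  intro T hT
  have h1 := card_blocks_through hB T (by omega)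
  rw [hT, ← hl] at h1
  have hpos : 0 < Nat.choose (k - i) (t - i) := Nat.choose_pos (by omega)
  exact Nat.eq_of_mul_eq_mul_right hpos h1

/-- Sum of a function of the intersection size over the blocks, when the sizes take three values. -/
theorem sum_three (s : Finset (Finset α)) (κ : Finset α → ℕ) (a b c : ℕ) (hab : a ≠ b) (hac : a ≠ c)
    (hbc : b ≠ c)
    (h : ∀ d ∈ s, κ d = a ∨ κ d = b ∨ κ d = c) (f : ℕ → ℕ) :
    ∑ d ∈ s, f (κ d) = f a * (s.filter (fun d => κ d = a)).card
      + f b * (s.filter (fun d => κ d = b)).card + f c * (s.filter (fun d => κ d = c)).card := by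
  have h1 : ∀ d ∈ s, f (κ d) = (if κ d = a then f a else 0) + (if κ d = b then f b else 0)
      + (if κ d = c then f c else 0) := by
    intro d hd
    rcases h d hd with h2 | h2 | h2 <;> simp [h2, hab, hac, hbc, hab.symm, hac.symm, hbc.symm]
  rw [sum_congr rfl h1, sum_add_distrib, sum_add_distrib]
  congr 1
  · congr 1
    · rw [← sum_filter, sum_const, smul_eq_mul, mul_comm]
    · rw [← sum_filter, sum_const, smul_eq_mul, mul_comm]
  · rw [← sum_filter, sum_const, smul_eq_mul, mul_comm]

end Cfsg.Agent.Lib.Steiner.Moments
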